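import Mathlib
import Groth.Agent.Lib.Helper9.Misc.RSL1
import Groth.Agent.Lib.Helper2.RegPow

/-! Parameters with annihilator conditions (Stacks 07F9-type lemma), helper8. -/

set_option autoImplicit false
set_option linter.style.haveILetI false
set_option linter.unusedSectionVars false
set_option linter.unusedVariables false
universe u

namespace Groth.Agent.H8.Par09

open RingTheory.Sequence

section LemmaA

variable {S : Type u} [CommRing S] [IsRegularLocalRing S]

theorem isRegular_ofFn_of_span_eq {d : ℕ} (hd : ringKrullDim S = d) (g : Fin d → S)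
    (hg : Ideal.span (Set.range g) = IsLocalRing.maximalIdeal S) :
    IsRegular S (List.ofFn g) := by
  have hset : {x | x ∈ List.ofFn g} = Set.range g := by
    ext x
    simp [List.mem_ofFn]
  have hofl : Ideal.ofList (List.ofFn g) = IsLocalRing.maximalIdeal S := by
    rw [← hg, Ideal.ofList, hset]
  apply Groth.Agent.H9.RSL.isRegular_of_dim S (List.ofFn g)
  · intro x hx
    rw [← hofl]
    exact Ideal.subset_span hx
  · rw [List.length_ofFn, hd]
    have h0 : ringKrullDim (S ⧸ Ideal.ofList (List.ofFn g)) = 0 := by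
      rw [hofl]
      letI := Ideal.Quotient.field (IsLocalRing.maximalIdeal S)
      exact ringKrullDim_eq_zero_of_field _
    rw [h0, zero_add]

theorem mem_of_pow_mul_mem {d : ℕ} (hd : ringKrullDim S = d) (g : Fin d → S)
    (hg : Ideal.span (Set.range g) = IsLocalRing.maximalIdeal S) (e : ℕ) (he : 0 < e)
    (i : Fin d) (j : ℕ) (x : S)
    (hx : g i ^ j * x ∈ Ideal.span {y | ∃ l : Fin d, l < i ∧ y = g l ^ e}) :
    x ∈ Ideal.span {y | ∃ l : Fin d, l < i ∧ y = g l ^ e} := by
  classical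
  have hreg := isRegular_ofFn_of_span_eq hd g hg
  obtain ⟨v, hv⟩ : ∃ v : Fin d → ℕ, ∀ l, v l = if l < i then e else 1 := ⟨_, fun _ => rfl⟩
  have hv1 : ∀ l, 1 ≤ v l := by
    intro l; rw [hv]; split_ifs <;> omega
  have hw : IsWeaklyRegular S (List.ofFn fun l => g l ^ v l) :=
    Groth.Agent.H2.RegPow.isWeaklyRegular_ofFn_pow d g v hv1 hreg.toIsWeaklyRegular
  have hlen : (i : ℕ) < (List.ofFn fun l => g l ^ v l).length := by
    rw [List.length_ofFn]; exact i.isLt
  have hsmr := hw.regular_mod_prev (i : ℕ) hlen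
  have hget : (List.ofFn fun l => g l ^ v l)[(i : ℕ)] = g i := by
    rw [List.getElem_ofFn]
    simp only [Fin.eta]
    rw [hv, if_neg (lt_irrefl i), pow_one]
  have hK : Ideal.ofList ((List.ofFn fun l => g l ^ v l).take (i : ℕ)) =
      Ideal.span {y | ∃ l : Fin d, l < i ∧ y = g l ^ e} := by
    rw [Ideal.ofList]
    congr 1
    ext y
    simp only [Set.mem_setOf_eq]
    constructor
    · intro hy
      obtain ⟨k, hk, rfl⟩ := List.mem_take_iff_getElem.mp hy
      have hk' := hk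
      rw [List.length_ofFn] at hk'
      have hk1 : k < (i : ℕ) := (lt_min_iff.mp hk').1
      have hk2 : k < d := (lt_min_iff.mp hk').2
      refine ⟨⟨k, hk2⟩, Fin.lt_def.mpr hk1, ?_⟩
      rw [List.getElem_ofFn, hv, if_pos (Fin.lt_def.mpr hk1)]
    · rintro ⟨l, hl, rfl⟩
      refine List.mem_take_iff_getElem.mpr ⟨(l : ℕ), ?_, ?_⟩
      · rw [List.length_ofFn]; exact lt_min_iff.mpr ⟨Fin.lt_def.mp hl, l.isLt⟩
      · rw [List.getElem_ofFn]
        simp only [Fin.eta]
        rw [hv, if_pos hl]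
  have hsm : (Ideal.ofList ((List.ofFn fun l => g l ^ v l).take (i : ℕ)) •
      (⊤ : Submodule S S)) = Ideal.ofList ((List.ofFn fun l => g l ^ v l).take (i : ℕ)) := by
    rw [smul_eq_mul, Ideal.mul_top]
  have hx' : (List.ofFn fun l => g l ^ v l)[(i : ℕ)] ^ j •
      (Submodule.Quotient.mk x : S ⧸ (Ideal.ofList ((List.ofFn fun l => g l ^ v l).take (i : ℕ)) •
        (⊤ : Submodule S S))) = 0 := by
    rw [← Submodule.Quotient.mk_smul, Submodule.Quotient.mk_eq_zero, hsm, hK, hget, smul_eq_mul]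
    exact hx
  have hz := (hsmr.pow j).right_eq_zero_of_smul hx'
  rw [Submodule.Quotient.mk_eq_zero, hsm, hK] at hz
  exact hz

end LemmaA

section Main

variable {Λ : Type u} [CommRing Λ]

/-- the ideal `(π_l^e : l < i)`. -/
def KK {d : ℕ} (e : ℕ) (π : Fin d → Λ) (i : Fin d) : Ideal Λ :=
  Ideal.span {y | ∃ l : Fin d, l < i ∧ y = π l ^ e}

/-- `p`-power torsion modulo `K`. -/
def torsIdeal (K : Ideal Λ) (p : Λ) : Ideal Λ where
  carrier := {x | ∃ j : ℕ, p ^ j * x ∈ K}
  add_mem' := by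
    rintro a b ⟨j, hj⟩ ⟨k, hk⟩
    refine ⟨j + k, ?_⟩
    have : p ^ (j + k) * (a + b) = p ^ k * (p ^ j * a) + p ^ j * (p ^ k * b) := by ring
    rw [this]
    exact K.add_mem (K.mul_mem_left _ hj) (K.mul_mem_left _ hk)
  zero_mem' := ⟨0, by simp⟩
  smul_mem' := by
    rintro c a ⟨j, hj⟩
    refine ⟨j, ?_⟩
    have : p ^ j * (c • a) = c * (p ^ j * a) := by rw [smul_eq_mul]; ring
    rw [this]; exact K.mul_mem_left _ hj

theorem mem_torsIdeal (K : Ideal Λ) (p x : Λ) : x ∈ torsIdeal K p ↔ ∃ j : ℕ, p ^ j * x ∈ K :=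
  Iff.rfl

/-- the colon ideal `(K : a)`. -/
def colonIdeal (K : Ideal Λ) (a : Λ) : Ideal Λ where
  carrier := {x | a * x ∈ K}
  add_mem' := by
    intro x y hx hy
    show a * (x + y) ∈ K
    rw [mul_add]; exact K.add_mem hx hy
  zero_mem' := by
    show a * 0 ∈ K
    simp
  smul_mem' := by
    intro c x hx
    show a * (c • x) ∈ K
    rw [smul_eq_mul, mul_left_comm]; exact K.mul_mem_left _ hx

theorem mem_colonIdeal (K : Ideal Λ) (a x : Λ) : x ∈ colonIdeal K a ↔ a * x ∈ K := Iff.rfl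

theorem span_range_eq_of_unit_mul {S : Type*} [CommRing S] {d : ℕ} (h g u : Fin d → S)
    (hu : ∀ i, IsUnit (u i)) (hh : ∀ i, h i = u i * g i) :
    Ideal.span (Set.range h) = Ideal.span (Set.range g) := by
  apply le_antisymm
  · rw [Ideal.span_le]
    rintro _ ⟨i, rfl⟩
    rw [SetLike.mem_coe, hh i]
    exact Ideal.mul_mem_left _ _ (Ideal.subset_span ⟨i, rfl⟩)
  · rw [Ideal.span_le]
    rintro _ ⟨i, rfl⟩
    rw [SetLike.mem_coe, ← Ideal.unit_mul_mem_iff_mem _ (hu i), ← hh i]
    exact Ideal.subset_span ⟨i, rfl⟩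

theorem KK_map {d : ℕ} (e : ℕ) (π : Fin d → Λ) (i : Fin d) {S : Type*} [CommRing S]
    (φ : Λ →+* S) :
    (KK e π i).map φ = Ideal.span {y | ∃ l : Fin d, l < i ∧ y = φ (π l) ^ e} := by
  rw [KK, Ideal.map_span]
  congr 1
  ext y
  constructor
  · rintro ⟨_, ⟨l, hl, rfl⟩, rfl⟩
    exact ⟨l, hl, map_pow _ _ _⟩
  · rintro ⟨l, hl, rfl⟩
    exact ⟨π l ^ e, ⟨l, hl, rfl⟩, map_pow _ _ _⟩

theorem KK_update {d : ℕ} (e : ℕ) (π : Fin d → Λ) (i₀ : Fin d) (c : Λ) (i : Fin d)
    (hi : i ≤ i₀) : KK e (Function.update π i₀ c) i = KK e π i := by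
  unfold KK
  congr 1
  ext y
  constructor
  · rintro ⟨l, hl, rfl⟩
    exact ⟨l, hl, by rw [Function.update_of_ne (ne_of_lt (lt_of_lt_of_le hl hi))]⟩
  · rintro ⟨l, hl, rfl⟩
    exact ⟨l, hl, by rw [Function.update_of_ne (ne_of_lt (lt_of_lt_of_le hl hi))]⟩

variable [IsNoetherianRing Λ] (q : Ideal Λ) [q.IsPrime]

theorem exists_uniform (J K : Ideal Λ) (h : ∀ x ∈ J, ∃ s, s ∉ q ∧ s * x ∈ K) :
    ∃ s, s ∉ q ∧ ∀ x ∈ J, s * x ∈ K := by
  classical
  obtain ⟨G, hG⟩ := (IsNoetherian.noetherian J : J.FG)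
  have hGJ : ∀ g ∈ G, g ∈ J := fun g hg => hG ▸ Submodule.subset_span hg
  choose! t ht using fun g (hg : g ∈ G) => h g (hGJ g hg)
  refine ⟨∏ g ∈ G, t g, ?_, ?_⟩
  · exact (q.primeCompl.prod_mem (fun g hg => (ht g hg).1) : _ ∈ q.primeCompl)
  · intro x hx
    rw [← hG] at hx
    refine Submodule.span_induction (p := fun x _ => (∏ g ∈ G, t g) * x ∈ K) ?_ ?_ ?_ ?_ hx
    · intro g hg
      have hg' : g ∈ G := hg
      rw [← Finset.mul_prod_erase G t hg', mul_right_comm]
      exact K.mul_mem_right _ (ht g hg').2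
    · simp
    · intro a b _ _ ha hb; rw [mul_add]; exact K.add_mem ha hb
    · intro c a _ ha; rw [smul_eq_mul, mul_left_comm]; exact K.mul_mem_left _ ha

theorem exists_mul_mem_of_map_mem (K : Ideal Λ) (x : Λ)
    (hx : algebraMap Λ (Localization.AtPrime q) x ∈
      K.map (algebraMap Λ (Localization.AtPrime q))) :
    ∃ s, s ∉ q ∧ s * x ∈ K := by
  obtain ⟨⟨a, s⟩, h⟩ := (IsLocalization.mem_map_algebraMap_iff q.primeCompl _).mp hx
  rw [← map_mul] at h
  obtain ⟨c, hc⟩ := (IsLocalization.eq_iff_exists q.primeCompl _).mp h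
  refine ⟨c * s, ?_, ?_⟩
  · exact (q.primeCompl.mul_mem c.2 s.2 : _ ∈ q.primeCompl)
  · have : (c : Λ) * s * x = c * (x * s) := by ring
    rw [this, hc]; exact K.mul_mem_left _ a.2

theorem exists_mul_mem_of_pow_mul_mem [IsRegularLocalRing (Localization.AtPrime q)] {d : ℕ}
    (hd : ringKrullDim (Localization.AtPrime q) = d) (e : ℕ) (he : 0 < e) (π : Fin d → Λ)
    (hπ : Ideal.span (Set.range fun i => algebraMap Λ (Localization.AtPrime q) (π i)) =
      IsLocalRing.maximalIdeal (Localization.AtPrime q))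
    (i : Fin d) (j : ℕ) (x : Λ) (hx : π i ^ j * x ∈ KK e π i) :
    ∃ s, s ∉ q ∧ s * x ∈ KK e π i := by
  apply exists_mul_mem_of_map_mem q
  rw [KK_map]
  apply mem_of_pow_mul_mem hd (fun i => algebraMap Λ (Localization.AtPrime q) (π i)) hπ e he i j
  have h1 := Ideal.mem_map_of_mem (algebraMap Λ (Localization.AtPrime q)) hx
  rw [KK_map, map_mul, map_pow] at h1
  exact h1

theorem step [IsRegularLocalRing (Localization.AtPrime q)] {d : ℕ}
    (hd : ringKrullDim (Localization.AtPrime q) = d) (e : ℕ) (he : 0 < e) (π : Fin d → Λ)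
    (hπ : Ideal.span (Set.range fun i => algebraMap Λ (Localization.AtPrime q) (π i)) =
      IsLocalRing.maximalIdeal (Localization.AtPrime q)) (i : Fin d) :
    ∃ t, t ∉ q ∧ ∀ x, (t * π i) ^ 2 * x ∈ KK e π i → (t * π i) * x ∈ KK e π i := by
  obtain ⟨s, hsq, hs⟩ := exists_uniform q (torsIdeal (KK e π i) (π i)) (KK e π i)
    (fun x hx => by
      obtain ⟨j, hj⟩ := (mem_torsIdeal _ _ _).mp hx
      exact exists_mul_mem_of_pow_mul_mem q hd e he π hπ i j x hj)
  let f : ℕ →o Ideal Λ := ⟨fun m => colonIdeal (KK e π i) (s ^ m), monotone_nat_of_le_succ (by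
    intro m x hx
    rw [mem_colonIdeal] at hx ⊢
    have : s ^ (m + 1) * x = s * (s ^ m * x) := by ring
    rw [this]; exact Ideal.mul_mem_left _ _ hx)⟩
  obtain ⟨m₀, hm₀⟩ := monotone_stabilizes_iff_noetherian.mpr (inferInstance : IsNoetherian Λ Λ) f
  refine ⟨s ^ m₀, ?_, ?_⟩
  · exact fun h => hsq (Ideal.IsPrime.mem_of_pow_mem ‹q.IsPrime› m₀ h)
  · intro x hx
    have h1 : s ^ (2 * m₀) * x ∈ torsIdeal (KK e π i) (π i) := by
      rw [mem_torsIdeal]
      refine ⟨2, ?_⟩
      have : π i ^ 2 * (s ^ (2 * m₀) * x) = (s ^ m₀ * π i) ^ 2 * x := by ring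
      rw [this]; exact hx
    have h2 : s * (s ^ (2 * m₀) * x) ∈ KK e π i := hs _ h1
    have h3 : x ∈ f (2 * m₀ + 1) := by
      show x ∈ colonIdeal (KK e π i) (s ^ (2 * m₀ + 1))
      rw [mem_colonIdeal]
      have : s ^ (2 * m₀ + 1) * x = s * (s ^ (2 * m₀) * x) := by ring
      rw [this]; exact h2
    rw [← hm₀ (2 * m₀ + 1) (by omega)] at h3
    have h4 : s ^ m₀ * x ∈ KK e π i := (mem_colonIdeal _ _ _).mp h3
    have : s ^ m₀ * π i * x = π i * (s ^ m₀ * x) := by ring
    rw [this]; exact Ideal.mul_mem_left _ _ h4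

theorem exists_params [IsRegularLocalRing (Localization.AtPrime q)] {d : ℕ}
    (hd : ringKrullDim (Localization.AtPrime q) = d) (e : ℕ) (he : 0 < e) (a : Fin d → Λ)
    (ha : Ideal.span (Set.range fun i => algebraMap Λ (Localization.AtPrime q) (a i)) =
      IsLocalRing.maximalIdeal (Localization.AtPrime q)) :
    ∀ k ≤ d, ∃ π : Fin d → Λ, (∀ i, ∃ u, u ∉ q ∧ π i = u * a i) ∧
      ∀ i : Fin d, (i : ℕ) < k → ∀ x, π i ^ 2 * x ∈ KK e π i → π i * x ∈ KK e π i := by
  intro k
  induction k with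
  | zero =>
    intro _
    refine ⟨a, fun i => ⟨1, fun h => (Ideal.IsPrime.ne_top ‹q.IsPrime›)
      ((Ideal.eq_top_iff_one _).mpr h), (one_mul _).symm⟩, fun i hi => absurd hi (Nat.not_lt_zero _)⟩
  | succ k ih =>
    intro hk
    obtain ⟨π, hπu, hπ3⟩ := ih (by omega)
    choose u hu hπa using hπu
    have hπspan : Ideal.span (Set.range fun i => algebraMap Λ (Localization.AtPrime q) (π i)) =
        IsLocalRing.maximalIdeal (Localization.AtPrime q) := by
      rw [← ha]
      apply span_range_eq_of_unit_mul _ _ (fun i => algebraMap Λ (Localization.AtPrime q) (u i))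
      · intro i
        exact IsLocalization.map_units (Localization.AtPrime q) (⟨u i, hu i⟩ : q.primeCompl)
      · intro i
        rw [hπa i, map_mul]
    obtain ⟨i₀, hi₀⟩ : ∃ i₀ : Fin d, (i₀ : ℕ) = k := ⟨⟨k, by omega⟩, rfl⟩
    obtain ⟨t, htq, ht⟩ := step q hd e he π hπspan i₀
    refine ⟨Function.update π i₀ (t * π i₀), ?_, ?_⟩
    · intro i
      by_cases hi : i = i₀
      · rw [hi, Function.update_self]
        exact ⟨t * u i₀, fun h => (‹q.IsPrime›.mem_or_mem h).elim htq (hu i₀),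
          by rw [hπa i₀]; ring⟩
      · rw [Function.update_of_ne hi]
        exact ⟨u i, hu i, hπa i⟩
    · intro i hik x hx
      have hle : i ≤ i₀ := by rw [Fin.le_def, hi₀]; omega
      rw [KK_update e π i₀ (t * π i₀) i hle] at hx ⊢
      by_cases hi : i = i₀
      · rw [hi] at hx ⊢
        rw [Function.update_self] at hx ⊢
        exact ht x hx
      · rw [Function.update_of_ne hi] at hx ⊢
        have hlt : (i : ℕ) < k := by
          have : (i : ℕ) ≠ k := fun h => hi (Fin.ext (h.trans hi₀.symm))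
          omega
        exact hπ3 i hlt x hx

theorem main2109 (I : Ideal Λ) (hIq : I ≤ q) (n e d : ℕ) (hn : 0 < n) (he : 0 < e)
    (hpow : (q ^ n).map (algebraMap Λ (Localization.AtPrime q)) ≤
      I.map (algebraMap Λ (Localization.AtPrime q)))
    [IsRegularLocalRing (Localization.AtPrime q)]
    (hd : ringKrullDim (Localization.AtPrime q) = d) :
    ∃ (N : ℕ) (π : Fin d → Λ), 0 < N ∧
      Ideal.span (Set.range fun i => algebraMap Λ (Localization.AtPrime q) (π i)) =
        q.map (algebraMap Λ (Localization.AtPrime q)) ∧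
      (∀ i, π i ^ N ∈ I) ∧
      ∀ i : Fin d, ∀ x : Λ ⧸ Ideal.span
          (Set.range fun j : {j : Fin d // (j : ℕ) < (i : ℕ)} => π j ^ e),
        Ideal.Quotient.mk _ (π i) ^ 2 * x = 0 → Ideal.Quotient.mk _ (π i) * x = 0 := by
  classical
  have hfin : (IsLocalRing.maximalIdeal (Localization.AtPrime q)).spanFinrank = d := by
    have h1 := IsRegularLocalRing.spanFinrank_maximalIdeal (R := Localization.AtPrime q)
    rw [hd] at h1
    exact_mod_cast h1
  obtain ⟨s, hscard, hsspan⟩ := Submodule.FG.exists_span_finset_card_eq_spanFinrank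
    (IsNoetherian.noetherian (IsLocalRing.maximalIdeal (Localization.AtPrime q)))
  have hsd : s.card = d := hscard.trans hfin
  obtain ⟨eqv⟩ : Nonempty (s ≃ Fin d) := ⟨s.equivFinOfCardEq hsd⟩
  obtain ⟨g, hgdef⟩ : ∃ g : Fin d → Localization.AtPrime q, ∀ i, g i = (eqv.symm i : _) :=
    ⟨_, fun _ => rfl⟩
  have hgrange : Set.range g = (s : Set (Localization.AtPrime q)) := by
    ext y
    constructor
    · rintro ⟨i, rfl⟩
      rw [hgdef]
      exact (eqv.symm i).2
    · intro hy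
      exact ⟨eqv ⟨y, hy⟩, by rw [hgdef]; simp⟩
  have hgspan : Ideal.span (Set.range g) = IsLocalRing.maximalIdeal (Localization.AtPrime q) := by
    rw [hgrange]; exact hsspan
  have hgmem : ∀ i, g i ∈ IsLocalRing.maximalIdeal (Localization.AtPrime q) := fun i => by
    rw [← hgspan]; exact Ideal.subset_span ⟨i, rfl⟩
  choose b hb using fun i => IsLocalization.surj q.primeCompl (g i)
  have haq : ∀ i, (b i).1 ∈ q := by
    intro i
    rw [← IsLocalization.AtPrime.to_map_mem_maximal_iff (Localization.AtPrime q) q (b i).1, ← hb i]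
    exact Ideal.mul_mem_right _ _ (hgmem i)
  have haspan : Ideal.span (Set.range fun i => algebraMap Λ (Localization.AtPrime q) (b i).1) =
      IsLocalRing.maximalIdeal (Localization.AtPrime q) := by
    rw [← hgspan]
    apply span_range_eq_of_unit_mul _ _
      (fun i => algebraMap Λ (Localization.AtPrime q) ((b i).2 : Λ))
    · intro i; exact IsLocalization.map_units (Localization.AtPrime q) (b i).2
    · intro i
      rw [← hb i, mul_comm]
  obtain ⟨s₀, hs₀q, hs₀⟩ := exists_uniform q (q ^ n) I (fun x hx =>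
    exists_mul_mem_of_map_mem q I x (hpow (Ideal.mem_map_of_mem _ hx)))
  have ha'span : Ideal.span (Set.range fun i =>
      algebraMap Λ (Localization.AtPrime q) (s₀ * (b i).1)) =
      IsLocalRing.maximalIdeal (Localization.AtPrime q) := by
    rw [← haspan]
    apply span_range_eq_of_unit_mul _ _ (fun _ => algebraMap Λ (Localization.AtPrime q) s₀)
    · intro i
      exact IsLocalization.map_units (Localization.AtPrime q) (⟨s₀, hs₀q⟩ : q.primeCompl)
    · intro i; exact map_mul _ s₀ (b i).1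
  obtain ⟨π, hπu, hπ3⟩ := exists_params q hd e he (fun i => s₀ * (b i).1) ha'span d le_rfl
  choose u hu hπa using hπu
  refine ⟨n, π, hn, ?_, ?_, ?_⟩
  · rw [Localization.AtPrime.map_eq_maximalIdeal, ← ha'span]
    apply span_range_eq_of_unit_mul _ _ (fun i => algebraMap Λ (Localization.AtPrime q) (u i))
    · intro i
      exact IsLocalization.map_units (Localization.AtPrime q) (⟨u i, hu i⟩ : q.primeCompl)
    · intro i
      rw [hπa i, map_mul]
  · intro i
    obtain ⟨m, rfl⟩ : ∃ m, n = m + 1 := ⟨n - 1, by omega⟩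
    have h1 : (b i).1 ^ (m + 1) ∈ q ^ (m + 1) := Ideal.pow_mem_pow (haq i) _
    have h2 := hs₀ _ h1
    have : π i ^ (m + 1) = u i ^ (m + 1) * s₀ ^ m * (s₀ * (b i).1 ^ (m + 1)) := by
      rw [hπa i]; ring
    rw [this]
    exact Ideal.mul_mem_left _ _ h2
  · intro i x
    obtain ⟨x, rfl⟩ := Ideal.Quotient.mk_surjective x
    intro h
    rw [← map_pow, ← map_mul, Ideal.Quotient.eq_zero_iff_mem] at h
    rw [← map_mul, Ideal.Quotient.eq_zero_iff_mem]
    have hKK : Ideal.span (Set.range fun j : {j : Fin d // (j : ℕ) < (i : ℕ)} => π j ^ e) =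
        KK e π i := by
      unfold KK
      congr 1
      ext y
      constructor
      · rintro ⟨⟨l, hl⟩, rfl⟩
        exact ⟨l, Fin.lt_def.mpr hl, rfl⟩
      · rintro ⟨l, hl, rfl⟩
        exact ⟨⟨l, Fin.lt_def.mp hl⟩, rfl⟩
    rw [hKK] at h ⊢
    exact hπ3 i i.isLt x h

end Main

end Groth.Agent.H8.Par09
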